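import Cfsg.Agent.H346.Car.SixTwA
import Cfsg.Agent.S0279
import Cfsg.Agent.S0278

/-!
# `InvSt K q` and `SixJ (²E₆(q)) t0` (S3852, T9, helper346)

`invSt`: the image of `SU₆(q)` in the centralizer of `t0` in a twisted group is invariant under the automorphisms
that fix `x0`. `six_tw`: `²E₆(q)`, `q` odd, has an involution `t0` with `SixJ _ t0`.
-/

set_option autoImplicit false
set_option linter.unusedSectionVars false

namespace Cfsg.Agent.H346.CarB

open CoxeterSystem Subgroup Cfsg Cfsg.Lie Cfsg.Lie.ChevalleyDatum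
open Cfsg.Agent.ChevalleyStructure Cfsg.Agent.ChevalleyStructure.Elts Cfsg.Agent.ChevalleyStructure.CoxeterGeom
  Cfsg.Agent.ChevalleyStructure.CoxeterGeomTypes Cfsg.Agent.ChevalleyStructure.NPerm
open Cfsg.Agent.Tits.Roots Cfsg.Agent.Tits.Core Cfsg.Agent.Nodes Cfsg.Agent.Nodes.Reps Cfsg.Agent.Nodes.BNOf
  Cfsg.Agent.Nodes.RGDChev Cfsg.Agent.Nodes.Bruhat
open Cfsg.Agent.KFacts.RgdField Cfsg.Agent.KFacts.RgdChevCoord
open Cfsg.Agent.BpExc Cfsg.Agent.BpExc.TorCent Cfsg.Agent.BpExc.TorChev Cfsg.Agent.BpExc.Tow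
open Cfsg.Agent.BpExc.TowChev Cfsg.Agent.BpExc.Fr Cfsg.Agent.BpExc.LangFr
open Cfsg.Agent.H720.TwFr
open Cfsg.Agent.H607.Car
open Cfsg.Agent.H92.ExcSL2 (SL2)
open Cfsg.Agent.H518.Carter.SixSplit (IsPi t0 t0_mem pi_z6 z6 coe_z6 t0_comm pth pi_comm MM_le card_sl2 z6_comm)
open Cfsg.Agent.H346.Car
open scoped commutatorElement

variable {K : Type} [Field K] [Fintype K] {q : ℕ} (hK : Fintype.card K = q ^ 2)

include hK in
theorem card_psu : (Nat.card K) ^ 4 ≤ Nat.card (PSU 6 K q) := by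
  have h1 := Cfsg.Agent.S0278.result hK 6 (by norm_num)
  have h2 : Nat.card (SU 6 K q) = Nat.card (PSU 6 K q) * Nat.gcd 6 (q + 1) := by
    rw [← Cfsg.Agent.S0279.result hK 6 (by norm_num)]
    exact Subgroup.card_eq_card_quotient_mul_card_subgroup _
  have hq : 2 ≤ q := Cfsg.Agent.LieClassical.HermBasic.two_le hK
  have hg : Nat.gcd 6 (q + 1) ≤ q + 1 := Nat.le_of_dvd (by omega) (Nat.gcd_dvd_right _ _)
  have hg0 : 0 < Nat.gcd 6 (q + 1) := Nat.gcd_pos_of_pos_left _ (by norm_num)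
  have hKc : Nat.card K = q ^ 2 := by rw [Nat.card_eq_fintype_card, hK]
  rw [hKc]
  have e : ∏ i ∈ Finset.range 6, (if Even i then q ^ (i + 1) + 1 else q ^ (i + 1) - 1) =
      (q + 1) * ((q ^ 2 - 1) * (q ^ 3 + 1) * (q ^ 4 - 1) * (q ^ 5 + 1) * (q ^ 6 - 1)) := by
    simp only [Finset.prod_range_succ, Finset.prod_range_zero]
    have h0 : Even 0 := by decide
    have h1 : ¬ Even 1 := by decide
    have h2 : Even 2 := by decide
    have h3 : ¬ Even 3 := by decide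
    have h4 : Even 4 := by decide
    have h5 : ¬ Even 5 := by decide
    rw [if_pos h0, if_neg h1, if_pos h2, if_neg h3, if_pos h4, if_neg h5]
    ring
  rw [e, h2] at h1
  have hpow : ∀ k, k ≠ 0 → 1 ≤ q ^ k - 1 := by
    intro k hk
    have := Nat.one_lt_pow hk (by omega : 1 < q)
    omega
  have hR : q + 1 ≤ (q ^ 2 - 1) * (q ^ 3 + 1) * (q ^ 4 - 1) * (q ^ 5 + 1) * (q ^ 6 - 1) := by
    have a1 : q + 1 ≤ q ^ 3 + 1 := by
      have := Nat.le_self_pow (n := 3) (by norm_num) q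
      omega
    calc q + 1 = 1 * (q + 1) * 1 * 1 * 1 := by ring
      _ ≤ _ := Nat.mul_le_mul (Nat.mul_le_mul (Nat.mul_le_mul (Nat.mul_le_mul (hpow 2 (by norm_num)) a1)
        (hpow 4 (by norm_num))) (by omega)) (hpow 6 (by norm_num))
  set R := (q ^ 2 - 1) * (q ^ 3 + 1) * (q ^ 4 - 1) * (q ^ 5 + 1) * (q ^ 6 - 1) with hRd
  have h3 : Nat.card (PSU 6 K q) * Nat.gcd 6 (q + 1) = q ^ 15 * R := by
    have h4 : (q + 1) * (Nat.card (PSU 6 K q) * Nat.gcd 6 (q + 1)) = (q + 1) * (q ^ 15 * R) := by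
      rw [h1]; ring
    exact Nat.eq_of_mul_eq_mul_left (by omega) h4
  have h5 : q ^ 15 * Nat.gcd 6 (q + 1) ≤ Nat.card (PSU 6 K q) * Nat.gcd 6 (q + 1) := by
    rw [h3]
    exact Nat.mul_le_mul le_rfl (hg.trans hR)
  have h6 := Nat.le_of_mul_le_mul_right h5 hg0
  refine le_trans ?_ h6
  rw [← pow_mul]
  exact Nat.pow_le_pow_right (by omega) (by norm_num)

include hK in
/-- a homomorphism of `SU₆(q)` to a small group is trivial -/
theorem su_trivial [StarRing K] (hst : ∀ x : K, star x = x ^ q) {Y : Type*} [Group Y] [Finite Y]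
    (hY : Nat.card Y < Nat.card K ^ 4) (f : H308.CA.SU (Fin 6) K →* Y) (u : H308.CA.SU (Fin 6) K) : f u = 1 := by
  have e : H308.CA.SU (Fin 6) K ≃* Cfsg.SU 6 K q := Cfsg.Agent.H466.CA.BridgeUni.kap hst
  let f' : Cfsg.SU 6 K q →* Y := f.comp e.symm.toMonoidHom
  have hfin : Finite (Cfsg.SU 6 K q) := Subtype.finite
  by_cases hc : f'.ker ≤ center (Cfsg.SU 6 K q)
  · exfalso
    have h1 : Nat.card (SU 6 K q) = Nat.card f'.range * Nat.card f'.ker := by
      rw [Subgroup.card_eq_card_quotient_mul_card_subgroup f'.ker,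
        Nat.card_congr (QuotientGroup.quotientKerEquivRange f').toEquiv]
    have h2 : Nat.card (SU 6 K q) = Nat.card (PSU 6 K q) * Nat.card (center (Cfsg.SU 6 K q)) :=
      Subgroup.card_eq_card_quotient_mul_card_subgroup _
    have h3 : Nat.card f'.range ≤ Nat.card Y := Nat.card_le_card_of_injective _ Subtype.val_injective
    have h4 : Nat.card f'.ker ≤ Nat.card (center (Cfsg.SU 6 K q)) :=
      Nat.card_le_card_of_injective _ (Subgroup.inclusion_injective hc)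
    have h5 := card_psu hK
    have h6 : 0 < Nat.card (center (Cfsg.SU 6 K q)) := Nat.card_pos
    have h7 : Nat.card (PSU 6 K q) * Nat.card (center (Cfsg.SU 6 K q)) ≤
        Nat.card Y * Nat.card (center (Cfsg.SU 6 K q)) := by
      rw [← h2, h1]
      exact Nat.mul_le_mul h3 h4
    have h8 := Nat.le_of_mul_le_mul_right h7 h6
    omega
  · have h1 := Cfsg.Agent.LieClassical.HermPerfect.normal_eq_top hK (n := 6) (by norm_num) (by rintro ⟨h, -⟩; omega) hc
    have h2 : e u ∈ f'.ker := by rw [h1]; trivial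
    have h3 : f (e.symm (e u)) = 1 := h2
    rwa [MulEquiv.symm_apply_apply] at h3

section

variable [StarRing K] (hst : ∀ x : K, star x = x ^ q) {π : SL6 K →* ↥(chevE6.group K)} (hπ : IsPi π)
  {l b : K} (B : Bas l b) {X : Type} [Group X] {ι : X →* ↥(chevE6.group K)} (hι : Function.Injective ι)
  {x0 : X} (h0 : ι x0 = t0 K)

include hK hst hπ in
/-- a perfect image of `SU₆(q)` in the centraliser of `t0` lies in the image of `SL₆(K)` -/
theorem mem_range (p : ℕ) [Fact p.Prime] [CharP K p] (h2 : (2 : K) ≠ 0)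
    (β : H308.CA.SU (Fin 6) K →* ↥(chevE6.group K)) (hP : commutator (H308.CA.SU (Fin 6) K) = ⊤)
    (hC : ∀ x, t0 K * β x = β x * t0 K) (u : H308.CA.SU (Fin 6) K) : β u ∈ π.range := by
  classical
  have hfin : Finite ↥(chevE6.group K) := inferInstance
  let κ : SL6 K × SL2 K →* ↥(chevE6.group K) := MonoidHom.noncommCoprod π (pth K) (fun m n => pi_comm hπ m n)
  have hκ : κ.range = π.range ⊔ (pth K).range := MonoidHom.noncommCoprod_range _ _ _
  have hκa : ∀ x y, κ (x, y) = π x * pth K y := fun _ _ => rfl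
  have hJ : ⁅β.range, β.range⁆ = β.range := by
    rw [MonoidHom.range_eq_map, ← Subgroup.map_commutator, ← _root_.commutator_def, hP]
  have hJC : β.range ≤ centralizer {t0 K} := by
    rintro _ ⟨x, rfl⟩
    rw [mem_centralizer_singleton_iff]
    exact (hC x).symm
  have ht2 : t0 K ^ 2 = 1 := by
    rw [← pi_z6 hπ, ← map_pow]
    have : z6 K ^ 2 = 1 := by
      apply Subtype.ext
      rw [Matrix.SpecialLinearGroup.coe_pow, coe_z6, neg_one_sq, Matrix.SpecialLinearGroup.coe_one]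
    rw [this, map_one]
  have hM : β.range ≤ κ.range := by
    rw [hκ]
    exact (TorChev.perfect_le hp6 cs6 p t0_mem Nat.prime_two ht2 hJC hJ).trans (MM_le hπ p h2)
  let N : Subgroup κ.range := π.range.subgroupOf κ.range
  have hN : N.Normal := by
    constructor
    rintro ⟨a, ha⟩ haN ⟨b, hb⟩
    rw [Subgroup.mem_subgroupOf] at haN ⊢
    obtain ⟨⟨x, y⟩, rfl⟩ := hb
    obtain ⟨z, hz⟩ := haN
    have hz' : π z = a := hz
    show κ (x, y) * a * (κ (x, y))⁻¹ ∈ π.range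
    rw [← hz', hκa]
    have h1 : pth K y * π z = π z * pth K y := (pi_comm hπ z y).eq.symm
    refine ⟨x * z * x⁻¹, ?_⟩
    rw [map_mul, map_mul, map_inv]
    calc π x * π z * (π x)⁻¹ = π x * (π z * pth K y) * (pth K y)⁻¹ * (π x)⁻¹ := by group
      _ = π x * (pth K y * π z) * (pth K y)⁻¹ * (π x)⁻¹ := by rw [h1]
      _ = _ := by group
  let Q : H308.CA.SU (Fin 6) K →* κ.range ⧸ N := (QuotientGroup.mk' N).comp
    (β.codRestrict κ.range fun x => hM ⟨x, rfl⟩)
  have hcard : Nat.card (κ.range ⧸ N) < Nat.card K ^ 4 := by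
    refine lt_of_le_of_lt ?_ (card_sl2 (F := K))
    let s : SL2 K → κ.range ⧸ N := fun y => QuotientGroup.mk ⟨κ (1, y), ⟨(1, y), rfl⟩⟩
    have hs : Function.Surjective s := by
      intro x
      obtain ⟨⟨a, ha⟩, rfl⟩ := QuotientGroup.mk_surjective x
      obtain ⟨⟨x, y⟩, rfl⟩ := ha
      refine ⟨y, ?_⟩
      rw [QuotientGroup.eq, Subgroup.mem_subgroupOf]
      show (κ (1, y))⁻¹ * κ (x, y) ∈ π.range
      refine ⟨x, ?_⟩
      rw [hκa, hκa, map_one, one_mul, (pi_comm hπ x y).eq, inv_mul_cancel_left]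
    exact Nat.card_le_card_of_surjective s hs
  have h1 := su_trivial hK hst hcard Q u
  have h3 : (⟨β u, hM ⟨u, rfl⟩⟩ : κ.range) ∈ N := (QuotientGroup.eq_one_iff _).1 h1
  rw [Subgroup.mem_subgroupOf] at h3
  exact h3

/-- the elements `g` with `ta g * g⁻¹` central -/
def AA (K : Type) [Field K] [StarRing K] : Subgroup (SL6 K) where
  carrier := {g | ∃ z ∈ center (SL6 K), ta g = z * g}
  one_mem' := ⟨1, one_mem _, by rw [map_one, one_mul]⟩
  mul_mem' := by
    rintro a c ⟨z, hz, hza⟩ ⟨w, hw, hwc⟩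
    refine ⟨z * w, mul_mem hz hw, ?_⟩
    rw [map_mul, hza, hwc]
    have h1 : a * w = w * a := (Subgroup.mem_center_iff.1 hw a)
    calc z * a * (w * c) = z * (a * w) * c := by group
      _ = z * (w * a) * c := by rw [h1]
      _ = _ := by group
  inv_mem' := by
    rintro a ⟨z, hz, hza⟩
    refine ⟨z⁻¹, inv_mem hz, ?_⟩
    rw [map_inv, hza, mul_inv_rev]
    exact (Subgroup.mem_center_iff.1 (inv_mem hz) a⁻¹)

theorem ta_commutator {g : SL6 K} (hg : g ∈ ⁅AA K, AA K⁆) : ta g = g := by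
  have h1 : ⁅AA K, AA K⁆ ≤ (ta (K := K)).eqLocus (MonoidHom.id _) := by
    rw [Subgroup.commutator_le]
    rintro a ⟨z, hz, hza⟩ c ⟨w, hw, hwc⟩
    show ta ⁅a, c⁆ = ⁅a, c⁆
    rw [map_commutatorElement, hza, hwc, commutatorElement_def, commutatorElement_def, mul_inv_rev, mul_inv_rev]
    have hz1 := Subgroup.mem_center_iff.1 hz
    have hw1 := Subgroup.mem_center_iff.1 hw
    calc z * a * (w * c) * (a⁻¹ * z⁻¹) * (c⁻¹ * w⁻¹) = z * (a * w) * (c * a⁻¹) * z⁻¹ * c⁻¹ * w⁻¹ := by group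
      _ = z * (w * a) * (c * a⁻¹) * z⁻¹ * c⁻¹ * w⁻¹ := by rw [hw1]
      _ = (z * (w * a * (c * a⁻¹))) * z⁻¹ * c⁻¹ * w⁻¹ := by group
      _ = (w * a * (c * a⁻¹)) * z * z⁻¹ * c⁻¹ * w⁻¹ := by rw [← hz1 (w * a * (c * a⁻¹))]
      _ = w * (a * c * a⁻¹ * c⁻¹) * w⁻¹ := by group
      _ = (a * c * a⁻¹ * c⁻¹) * w * w⁻¹ := by rw [hw1]
      _ = _ := by group
  exact h1 hg

end

include hK in
/-- **The invariance of the image of `SU₆(q)`.** -/
theorem invSt : InvSt K q := by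
  intro _ hst π hπ hker l b B X _ ι hι hfix x0 h0 j hj α hα u
  obtain ⟨p, hp⟩ := CharP.exists K
  have hpf : Fact p.Prime := ⟨(CharP.char_is_prime_or_zero K p).resolve_right (CharP.char_ne_zero_of_finite K p)⟩
  have hP := Cfsg.Agent.H55.CO.su_perfect (gd_of_bas B) (isUnit_iff_ne_zero.2 B.two) (m := 6) (by norm_num)
  let β : H308.CA.SU (Fin 6) K →* ↥(chevE6.group K) := ι.comp (α.toMonoidHom.comp j)
  have hβ : ∀ x, β x = ι (α (j x)) := fun _ => rfl
  have hC : ∀ x, t0 K * β x = β x * t0 K := by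
    intro x
    have h1 : x0 * j x = j x * x0 := by
      apply hι
      rw [map_mul, map_mul, h0, hj]
      exact t0_comm hπ _
    have h2 := congrArg (fun y => ι (α y)) h1
    simp only [map_mul, hα, h0] at h2
    exact h2
  have hA : β.range ≤ (AA K).map π := by
    rintro _ ⟨x, rfl⟩
    obtain ⟨g, hg⟩ := mem_range hK hst hπ p B.two β hP hC x
    have h1 : π (ta g) = π g := by
      have h2 := hfix (α (j x)) g (hg.symm : ι (α (j x)) = π g)
      rw [← h2]
      exact hg.symm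
    refine ⟨g, ⟨ta g * g⁻¹, hker ?_, by rw [inv_mul_cancel_right]⟩, hg⟩
    rw [MonoidHom.mem_ker, map_mul, map_inv, h1, mul_inv_cancel]
  have hJ : ⁅β.range, β.range⁆ = β.range := by
    rw [MonoidHom.range_eq_map, ← Subgroup.map_commutator, ← _root_.commutator_def, hP]
  have h3 : β u ∈ (⁅AA K, AA K⁆).map π := by
    rw [Subgroup.map_commutator]
    exact Subgroup.commutator_mono hA hA (by rw [hJ]; exact ⟨u, rfl⟩)
  obtain ⟨g, hg, hgu⟩ := h3
  obtain ⟨v, hv⟩ := exists_Ps B (ta_commutator hg)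
  refine ⟨v, hι ?_⟩
  rw [hj, hv, hgu, hβ]

theorem six_tw (K : Type) [Field K] [Fintype K] (q : ℕ) (hq : IsPrimePow q) (ho : Odd q)
    (hK : Fintype.card K = q ^ 2) : ∃ t0, SixJ ↥(twistedE6 K q) t0 := by
  obtain ⟨r, n, hr, hn, hqr⟩ := (isPrimePow_nat_iff _).1 hq
  have hrf : Fact r.Prime := ⟨hr⟩
  have hch : CharP K r := by
    obtain ⟨p, hp⟩ := CharP.exists K
    obtain ⟨m, hpp, hc⟩ := FiniteField.card K p
    have h1 : p ∣ (r ^ n) ^ 2 := by rw [hqr, ← hK, hc]; exact dvd_pow_self p m.ne_zero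
    have h2 := (Nat.prime_dvd_prime_iff_eq hpp hr).1 (hpp.dvd_of_dvd_pow (hpp.dvd_of_dvd_pow h1))
    rwa [← h2]
  obtain ⟨f⟩ := Cfsg.Agent.BpExc.RowsUntw.exists_emb r K
  obtain ⟨x0, -, h, -⟩ := sixJ_tw_of hn hqr.symm hK (by
    rintro rfl
    rw [← hqr] at ho
    exact (Nat.not_odd_iff_even.2 ((Nat.even_pow.2 ⟨even_two, hn.ne'⟩))) ho) f (invSt hK)
  exact ⟨x0, h⟩

end Cfsg.Agent.H346.CarB
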