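import Cfsg.Agent.H346.Car.TwMat
import Cfsg.Agent.H518.Carter.SixSplit
import Cfsg.Agent.H55.CO.Perf
import Cfsg.Agent.H696.GmnTwE6
import Cfsg.Agent.ChevalleyStructure.TwE6BN

/-!
# The component `SU₆(q)` of the centraliser of `t0` in `²E₆(q)` (helper346, S3852, T9 twisted)

* `sg_pi` : the Steinberg endomorphism on the image of `SL₆(K)`;
* `mem_tw` : the image of `SU₆(q)` lies in `²E₆(q)`;
* `isConj_tg` : the conjugacy of `h_γ(-1)` and `t0`.
-/

set_option autoImplicit false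
set_option linter.unusedSectionVars false

namespace Cfsg.Agent.H346.Car

open CoxeterSystem Subgroup Cfsg Cfsg.Lie Cfsg.Lie.ChevalleyDatum
open Cfsg.Agent.ChevalleyStructure Cfsg.Agent.ChevalleyStructure.Elts Cfsg.Agent.ChevalleyStructure.CoxeterGeom
  Cfsg.Agent.ChevalleyStructure.CoxeterGeomTypes Cfsg.Agent.ChevalleyStructure.NPerm
open Cfsg.Agent.Tits.Roots Cfsg.Agent.Tits.Core Cfsg.Agent.Nodes Cfsg.Agent.Nodes.Reps Cfsg.Agent.Nodes.BNOf
  Cfsg.Agent.Nodes.RGDChev Cfsg.Agent.Nodes.Bruhat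
open Cfsg.Agent.KFacts.RgdField Cfsg.Agent.KFacts.RgdChevCoord
open Cfsg.Agent.BpExc Cfsg.Agent.BpExc.TorCent Cfsg.Agent.BpExc.TorChev Cfsg.Agent.BpExc.Tow
open Cfsg.Agent.BpExc.TowChev Cfsg.Agent.BpExc.Fr Cfsg.Agent.BpExc.LangFr
open Cfsg.Agent.H720.TwFr
open Cfsg.Agent.H607.Car
open Cfsg.Agent.H120.SLHom (rE6 sE6 a5_E6)
open Cfsg.Agent.H518.Carter.SixSplit (IsPi t0 t0_mem ch_t0 ext_TT isRoot_vec rfw rfw_lt pi_diag pi_z6 coe_z6 z6
  neg_one_zpow_of_even exists_pi t0_comm)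
open Cfsg.Agent.ChevalleyStructure.TwE6Basic (sg sg_x rho)
open Cfsg.Agent.ChevalleyStructure.GraphSymm (symmE6)

/-! ### the Steinberg endomorphism -/

theorem tab_rho : ∀ i j : Fin 6, i ≠ j → ∀ h : rE6 i j < 72, (rho ⟨rE6 i j, h⟩).val = rE6 (Fin.rev j) (Fin.rev i) ∧
    symmE6.ε ⟨rE6 i j, h⟩ * sE6 i j = -(sg6 i * sg6 j) * sE6 (Fin.rev j) (Fin.rev i) := by decide +kernel

variable {K : Type} [Field K]

section

variable [StarRing K] {φ : K →+* K} (hφ : ∀ x : K, φ x = star x) {π : SL6 K →* ↥(chevE6.group K)} (hπ : IsPi π)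

include hφ hπ in
/-- **The Steinberg endomorphism on the image of `SL₆(K)`.** -/
theorem sg_pi (g : SL6 K) : sg φ ((π g : ↥(chevE6.group K)) : GL chevE6.Idx K) =
    ((π (ta g) : ↥(chevE6.group K)) : GL chevE6.Idx K) := by
  refine Cfsg.Agent.LieClassical.SLGen.transvection_induction
    (fun g => sg φ ((π g : ↥(chevE6.group K)) : GL chevE6.Idx K) =
      ((π (ta g) : ↥(chevE6.group K)) : GL chevE6.Idx K)) (fun i j hij a => ?_) (fun A B hA hB => ?_) g
  · have hr : rE6 i j < 72 := a5_E6.a i j hij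
    obtain ⟨h1, h2⟩ := tab_rho i j hij hr
    rw [ta_transvection, hπ i j hij, hπ _ _ (rev_ne hij), ← h1]
    refine (sg_x φ ⟨rE6 i j, hr⟩ _).trans ?_
    congr 1
    obtain ⟨e, he⟩ : ∃ e : ℤ, e = symmE6.ε ⟨rE6 i j, hr⟩ := ⟨_, rfl⟩
    rw [← he] at h2
    have h3 : ((e : ℤ) : K) * (sE6 i j : K) = -((sg6 i * sg6 j : ℤ) : K) * (sE6 (Fin.rev j) (Fin.rev i) : K) := by
      rw [← Int.cast_mul, h2]
      push_cast
      ring
    have h4 : ((symmE6.ε ⟨rE6 i j, hr⟩ : ℤ) : K) = (e : K) := by rw [he]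
    refine (congrArg₂ (· * ·) h4 rfl).trans ?_
    show (e : K) * φ ((sE6 i j : K) * a) = _
    rw [map_mul, map_intCast, hφ, ← mul_assoc, h3]
    ring
  · rw [map_mul, map_mul, Subgroup.coe_mul, map_mul, hA, hB, map_mul, Subgroup.coe_mul]

end

/-! ### perfect groups -/

theorem eq_top_of_cube {P : Type*} [Group P] [Finite P] (hP : commutator P = ⊤) {N : Subgroup P} [N.Normal] {p : ℕ}
    [Fact p.Prime] (h : ∀ u : P, u ^ p ∈ N) : N = ⊤ := by
  have hp : IsPGroup p (P ⧸ N) := by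
    intro x
    obtain ⟨u, rfl⟩ := QuotientGroup.mk_surjective x
    refine ⟨1, ?_⟩
    rw [pow_one, ← QuotientGroup.mk_pow]
    exact (QuotientGroup.eq_one_iff _).2 (h u)
  have hc : commutator (P ⧸ N) = ⊤ := by
    rw [commutator_def, ← Subgroup.map_top_of_surjective (QuotientGroup.mk' N) (QuotientGroup.mk'_surjective N),
      ← Subgroup.map_commutator, ← commutator_def, hP]
  have hn := hp.isNilpotent
  by_contra hN
  have hnt : Nontrivial (P ⧸ N) := by
    by_contra hs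
    rw [not_nontrivial_iff_subsingleton] at hs
    apply hN
    rw [eq_top_iff]
    intro u _
    exact (QuotientGroup.eq_one_iff u).1 (Subsingleton.elim _ _)
  exact absurd hc (Group.IsSolvable.commutator_lt_top_of_nontrivial (P ⧸ N)).ne

/-! ### the twisted group -/

theorem glMap_id {D : ChevalleyDatum} (g : GL D.Idx K) : Cfsg.Agent.GpExc.Field.glMap D (RingHom.id K) g = g := by
  apply Units.ext
  rw [Cfsg.Agent.GpExc.Field.coe_glMap]
  ext i j
  rfl

theorem sg_glMap {k : Type} [Field k] {f : K →+* k} {φ : K →+* K} {Φ : k →+* k} (hf : ∀ t, Φ (f t) = f (φ t))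
    {g : GL chevE6.Idx K} (hg : g ∈ chevE6.group K) :
    sg Φ (Cfsg.Agent.GpExc.Field.glMap chevE6 f g) = Cfsg.Agent.GpExc.Field.glMap chevE6 f (sg φ g) := by
  have h1 : chevE6.group K ≤ MonoidHom.eqLocus ((sg Φ).comp (Cfsg.Agent.GpExc.Field.glMap chevE6 f))
      ((Cfsg.Agent.GpExc.Field.glMap chevE6 f).comp (sg φ)) := by
    rw [Cfsg.Agent.ChevalleyStructure.Elts.group_le_iff Cfsg.Agent.Nodes.RGDTwE6.hp.inList]
    intro r hr t
    show sg Φ (Cfsg.Agent.GpExc.Field.glMap chevE6 f (xG _ r t)) = Cfsg.Agent.GpExc.Field.glMap chevE6 f (sg φ (xG _ r t))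
    rw [Cfsg.Agent.GpExc.Field.glMap_xG]
    exact Cfsg.Agent.BpExc.EmbInst.sg_natural hf r hr t
  exact h1 hg

/-- **Fixed points of the Steinberg endomorphism: their cube is in `²E₆(q)`, and they normalise it.** -/
theorem fixed_tw [Fintype K] {q r n : ℕ} [Fact r.Prime] [CharP K r] (hn0 : 0 < n) (hn : q = r ^ n)
    (hK : Fintype.card K = q ^ 2) {φ : K →+* K} (hφ : ∀ t, φ t = t ^ q) {g : GL chevE6.Idx K}
    (hg : g ∈ chevE6.group K) (hs : sg φ g = g) :
    g ^ 3 ∈ twistedE6 K q ∧ ∀ x ∈ twistedE6 K q, g * x * g⁻¹ ∈ twistedE6 K q := by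
  have hrp : r.Prime := Fact.out
  have hq : IsPrimePow q := (isPrimePow_nat_iff _).2 ⟨r, n, hrp, hn0, hn.symm⟩
  constructor
  · obtain ⟨f⟩ := RowsUntw.exists_emb r K
    have hk : LocFin (AlgebraicClosure (ZMod r)) := locFin_of_isAlgebraic r _
    have hy : sig6 (AlgebraicClosure (ZMod r)) r n (Cfsg.Agent.GpExc.Field.emb inListE6 f ⟨g, hg⟩) =
        Cfsg.Agent.GpExc.Field.emb inListE6 f ⟨g, hg⟩ := by
      apply Subtype.ext
      rw [coe_sig6]
      show sg _ (Cfsg.Agent.GpExc.Field.glMap chevE6 f g) = Cfsg.Agent.GpExc.Field.glMap chevE6 f g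
      rw [sg_glMap (φ := φ) (fun t => by rw [iterateFrobenius_def, hφ, map_pow, hn]) hg, hs]
    obtain ⟨x, hx⟩ := desc6 f r hk hn0 hn hK hy
    have h1 : Cfsg.Agent.GpExc.Field.glMap chevE6 f (x : GL chevE6.Idx K) =
        Cfsg.Agent.GpExc.Field.glMap chevE6 f (g ^ Nat.gcd 3 (q + 1)) := by
      rw [map_pow]
      exact congrArg Subtype.val hx
    have h2 := Cfsg.Agent.GpExc.Field.glMap_injective chevE6 f h1
    obtain ⟨m, hm⟩ := Nat.gcd_dvd_left 3 (q + 1)
    have h3 : g ^ 3 = (g ^ Nat.gcd 3 (q + 1)) ^ m := by rw [← pow_mul, ← hm]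
    rw [h3, ← h2]
    exact pow_mem x.2 m
  · intro x hx
    have h1 := Cfsg.Agent.BpExc.EmbInst.twE6_normalizer (f := RingHom.id K) hq hK hφ hg hs
    have h2 := (Subgroup.mem_normalizer_iff.1 h1 x).1 ⟨x, hx, glMap_id x⟩
    obtain ⟨b, hb, e⟩ := h2
    rw [← e, glMap_id]
    exact hb

section

variable [Fintype K] [StarRing K] {q r n : ℕ} [Fact r.Prime] [CharP K r] (hn0 : 0 < n) (hn : q = r ^ n)
  (hK : Fintype.card K = q ^ 2) (hst : ∀ x : K, star x = x ^ q) {π : SL6 K →* ↥(chevE6.group K)} (hπ : IsPi π)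
  {l b : K} (B : Bas l b)

theorem gd_of_bas (B : Bas l b) : H308.CA.Gd K := by
  refine H308.CA.Good.uni K _ _ inferInstance ⟨l, fun h => ?_⟩
  have h1 : (2 : K) * l = 0 := by
    have := B.sl
    rw [h] at this
    linear_combination this
  rcases mul_eq_zero.1 h1 with h2 | h2
  · exact B.two h2
  · exact B.l0 h2

include hn0 hn hK hst hπ in
/-- **The image of `SU₆(q)` lies in `²E₆(q)`.** -/
theorem mem_tw (u : H308.CA.SU (Fin 6) K) :
    ((π (Ps B u) : ↥(chevE6.group K)) : GL chevE6.Idx K) ∈ twistedE6 K q := by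
  have hrp : r.Prime := Fact.out
  have hq : IsPrimePow q := (isPrimePow_nat_iff _).2 ⟨r, n, hrp, hn0, hn.symm⟩
  obtain ⟨φ, hφ, hqq⟩ := Cfsg.Agent.ChevalleyStructure.TwE6Basic.exists_frob hq hK
  have hs : ∀ u, sg φ ((π (Ps B u) : ↥(chevE6.group K)) : GL chevE6.Idx K) =
      ((π (Ps B u) : ↥(chevE6.group K)) : GL chevE6.Idx K) := by
    intro u
    rw [sg_pi (fun x => by rw [hφ, hst]) hπ, ta_Ps]
  let N : Subgroup (H308.CA.SU (Fin 6) K) :=
    (twistedE6 K q).comap ((chevE6.group K).subtype.comp (π.comp (Ps B)))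
  have hN : N.Normal := by
    refine ⟨fun x hx g => ?_⟩
    show ((π (Ps B (g * x * g⁻¹)) : ↥(chevE6.group K)) : GL chevE6.Idx K) ∈ twistedE6 K q
    rw [map_mul, map_mul, map_mul, map_mul, map_inv, map_inv, Subgroup.coe_mul, Subgroup.coe_mul, Subgroup.coe_inv]
    exact (fixed_tw hn0 hn hK hφ (π (Ps B g)).2 (hs g)).2 _ hx
  have hP := Cfsg.Agent.H55.CO.su_perfect (gd_of_bas B) (isUnit_iff_ne_zero.2 B.two) (m := 6) (by norm_num)
  have : Fact (Nat.Prime 3) := ⟨Nat.prime_three⟩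
  have htop : N = ⊤ := eq_top_of_cube (p := 3) hP (fun u => by
    show ((π (Ps B (u ^ 3)) : ↥(chevE6.group K)) : GL chevE6.Idx K) ∈ twistedE6 K q
    rw [map_pow, map_pow, Subgroup.coe_pow]
    exact (fixed_tw hn0 hn hK hφ (π (Ps B u)).2 (hs u)).1)
  have h : u ∈ N := by rw [htop]; trivial
  exact h

end

/-! ### the classes of `t0` and `h_γ(-1)` -/

theorem mone_ne {K : Type} [Field K] : (-1 : K) ≠ 0 := neg_ne_zero.2 one_ne_zero

section

variable [Finite K] (p : ℕ) [Fact p.Prime] [CharP K p]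

/-- `h_γ(-1)`, `γ` the highest root of `A₅` -/
noncomputable def tg (K : Type) [Field K] : ↥(chevE6.group K) :=
  hc hp6 0 (-1) * hc hp6 2 (-1) * hc hp6 3 (-1) * hc hp6 4 (-1) * hc hp6 5 (-1)

theorem tg_mem : tg K ∈ TT chevE6 K :=
  mul_mem (mul_mem (mul_mem (mul_mem (hc_mem hp6 0 mone_ne) (hc_mem hp6 2 mone_ne)) (hc_mem hp6 3 mone_ne))
    (hc_mem hp6 4 mone_ne)) (hc_mem hp6 5 mone_ne)

include p in
theorem ch_tg {r : ℕ} (hr : r < 72) : ch hp6 (vec chevE6 6 r) (tg K) =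
    (-1) ^ (chevE6.cartan 0 r + chevE6.cartan 2 r + chevE6.cartan 3 r + chevE6.cartan 4 r + chevE6.cartan 5 r) := by
  have C := (coords (K := K) hp6 cs6 p).coord _ (isRoot_vec hr)
  have m0 := hc_mem (K := K) hp6 0 mone_ne
  have m2 := hc_mem (K := K) hp6 2 mone_ne
  have m3 := hc_mem (K := K) hp6 3 mone_ne
  have m4 := hc_mem (K := K) hp6 4 mone_ne
  have m5 := hc_mem (K := K) hp6 5 mone_ne
  rw [tg, C.chi_mul (mul_mem (mul_mem (mul_mem m0 m2) m3) m4) m5, C.chi_mul (mul_mem (mul_mem m0 m2) m3) m4,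
    C.chi_mul (mul_mem m0 m2) m3, C.chi_mul m0 m2, ch_hc hp6 0 mone_ne hr, ch_hc hp6 2 mone_ne hr,
    ch_hc hp6 3 mone_ne hr, ch_hc hp6 4 mone_ne hr, ch_hc hp6 5 mone_ne hr, zpow_add₀ mone_ne, zpow_add₀ mone_ne,
    zpow_add₀ mone_ne, zpow_add₀ mone_ne]
  rfl

include p in
theorem conj_word (w : List (Fin 6)) {t : ↥(chevE6.group K)} (ht : t ∈ TT chevE6 K) :
    (w.map (nc hp6 K)).prod * t * ((w.map (nc hp6 K)).prod)⁻¹ ∈ TT chevE6 K ∧
      ∀ r < 72, ch hp6 (vec chevE6 6 (rfw w r)) ((w.map (nc hp6 K)).prod * t * ((w.map (nc hp6 K)).prod)⁻¹) =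
        ch hp6 (vec chevE6 6 r) t := by
  have R := rgd (K := K) hp6 cs6 p
  induction w with
  | nil => exact ⟨by simpa using ht, fun r hr => by simp [rfw]⟩
  | cons i w ih =>
    obtain ⟨hg, h⟩ := ih
    rw [List.map_cons, List.prod_cons]
    have h1 : nc hp6 K i * ((w.map (nc hp6 K)).prod * t * ((w.map (nc hp6 K)).prod)⁻¹) * (nc hp6 K i)⁻¹ ∈ TT chevE6 K :=
      (Subgroup.mem_normalizer_iff.1 (R.nsys.norm i) _).1 hg
    have e : nc hp6 K i * (w.map (nc hp6 K)).prod * t * (nc hp6 K i * (w.map (nc hp6 K)).prod)⁻¹ =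
        nc hp6 K i * ((w.map (nc hp6 K)).prod * t * ((w.map (nc hp6 K)).prod)⁻¹) * (nc hp6 K i)⁻¹ := by group
    rw [e]
    refine ⟨h1, fun r hr => ?_⟩
    exact (chi_n hp6 (rfw_lt hr) hg h1).trans (h r hr)

/-- a word from `γ` to `θ` -/
def wg : List (Fin 6) := [1, 3, 2, 4, 3, 1]

/-- the table check -/
def chkg : Bool := (List.range 72).all fun r => Nat.beq (rfw wg (rfw wg.reverse r)) r &&
  decide ((chevE6.cartan 0 r + chevE6.cartan 3 r + chevE6.cartan 5 r - (chevE6.cartan 0 (rfw wg.reverse r) +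
    chevE6.cartan 2 (rfw wg.reverse r) + chevE6.cartan 3 (rfw wg.reverse r) + chevE6.cartan 4 (rfw wg.reverse r) +
    chevE6.cartan 5 (rfw wg.reverse r))) % 2 = 0)

theorem chkg_eq : chkg = true := by decide +kernel

/-- the conjugating element -/
noncomputable def ng (K : Type) [Field K] : ↥(chevE6.group K) := (wg.map (nc hp6 K)).prod

include p in
theorem conj_tg : ng K * tg K * (ng K)⁻¹ = t0 K := by
  obtain ⟨hg, h⟩ := conj_word (K := K) p wg (tg_mem (K := K))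
  refine ext_TT p hg t0_mem fun r hr => ?_
  have h1 := List.all_eq_true.1 chkg_eq r (List.mem_range.2 hr)
  simp only [Bool.and_eq_true, decide_eq_true_eq] at h1
  have h2 := h (rfw wg.reverse r) (rfw_lt hr)
  rw [Nat.eq_of_beq_eq_true h1.1] at h2
  refine h2.trans ?_
  rw [ch_tg p (rfw_lt hr), ch_t0 p hr]
  exact (neg_one_zpow_of_even h1.2).symm

end

theorem coe_nc (i : Fin 6) : ((nc hp6 K i : ↥(chevE6.group K)) : GL chevE6.Idx K) =
    Cfsg.Agent.ChevalleyStructure.TwE6Basic.nE (K := K) (chevE6.simple i) := rfl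

theorem ng_mem {q : ℕ} {φ : K →+* K} (hφ : ∀ t, φ t = t ^ q) :
    ((ng K : ↥(chevE6.group K)) : GL chevE6.Idx K) ∈ twistedE6 K q := by
  have h : ((ng K : ↥(chevE6.group K)) : GL chevE6.Idx K) =
      Cfsg.Agent.ChevalleyStructure.TwE6Basic.n 0 * Cfsg.Agent.ChevalleyStructure.TwE6Basic.n 1 *
      Cfsg.Agent.ChevalleyStructure.TwE6Basic.n 2 * Cfsg.Agent.ChevalleyStructure.TwE6Basic.n 1 *
      Cfsg.Agent.ChevalleyStructure.TwE6Basic.n 0 := by
    simp only [ng, wg, List.map_cons, List.map_nil, List.prod_cons, List.prod_nil, mul_one, Subgroup.coe_mul,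
      Cfsg.Agent.ChevalleyStructure.TwE6Basic.n, Cfsg.Agent.ChevalleyStructure.TwE6Basic.J, Matrix.cons_val_zero,
      Matrix.cons_val_one, Matrix.cons_val, mul_assoc]
    rfl
  rw [h]
  have hm := Cfsg.Agent.ChevalleyStructure.TwE6BN.n_mem_G (K := K) φ hφ
  exact mul_mem (mul_mem (mul_mem (mul_mem (hm 0) (hm 1)) (hm 2)) (hm 1)) (hm 0)

/-- the diagonal element -/
theorem pi_dg [Finite K] {π : SL6 K →* ↥(chevE6.group K)} (hπ : IsPi π) {g : SL6 K}
    (hg : g.1 = Matrix.diagonal ![-1, 1, 1, 1, 1, -1]) : π g = tg K := by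
  have h : g = Matrix.SpecialLinearGroup.diag2n (show (0 : Fin 6) ≠ 1 by decide) (-1) mone_ne *
      Matrix.SpecialLinearGroup.diag2n (show (1 : Fin 6) ≠ 2 by decide) (-1) mone_ne *
      Matrix.SpecialLinearGroup.diag2n (show (2 : Fin 6) ≠ 3 by decide) (-1) mone_ne *
      Matrix.SpecialLinearGroup.diag2n (show (3 : Fin 6) ≠ 4 by decide) (-1) mone_ne *
      Matrix.SpecialLinearGroup.diag2n (show (4 : Fin 6) ≠ 5 by decide) (-1) mone_ne := by
    apply Subtype.ext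
    rw [hg, Matrix.SpecialLinearGroup.coe_mul, Matrix.SpecialLinearGroup.coe_mul, Matrix.SpecialLinearGroup.coe_mul,
      Matrix.SpecialLinearGroup.coe_mul, Matrix.SpecialLinearGroup.diag2n_coe, Matrix.SpecialLinearGroup.diag2n_coe,
      Matrix.SpecialLinearGroup.diag2n_coe, Matrix.SpecialLinearGroup.diag2n_coe, Matrix.SpecialLinearGroup.diag2n_coe,
      Matrix.diagonal_mul_diagonal, Matrix.diagonal_mul_diagonal, Matrix.diagonal_mul_diagonal,
      Matrix.diagonal_mul_diagonal]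
    congr 1
    funext i
    fin_cases i <;> simp [inv_neg]
  rw [h, map_mul, map_mul, map_mul, map_mul,
    pi_diag hπ (k := 0) (by decide) (by decide +kernel) (by decide +kernel) (by decide) (by decide),
    pi_diag hπ (k := 2) (by decide) (by decide +kernel) (by decide +kernel) (by decide) (by decide),
    pi_diag hπ (k := 3) (by decide) (by decide +kernel) (by decide +kernel) (by decide) (by decide),
    pi_diag hπ (k := 4) (by decide) (by decide +kernel) (by decide +kernel) (by decide) (by decide),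
    pi_diag hπ (k := 5) (by decide) (by decide +kernel) (by decide +kernel) (by decide) (by decide)]
  rfl

theorem tg_ne [Finite K] (p : ℕ) [Fact p.Prime] [CharP K p] (h2 : (2 : K) ≠ 0) : tg K ≠ t0 K := by
  intro h
  have h1 := ch_tg (K := K) p (r := chevE6.simple 0) (by decide)
  rw [h, ch_t0 p (by decide)] at h1
  have e1 : chevE6.cartan 0 (chevE6.simple 0) + chevE6.cartan 3 (chevE6.simple 0) + chevE6.cartan 5 (chevE6.simple 0) = 2 := by
    decide +kernel
  have e2 : chevE6.cartan 0 (chevE6.simple 0) + chevE6.cartan 2 (chevE6.simple 0) + chevE6.cartan 3 (chevE6.simple 0) +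
      chevE6.cartan 4 (chevE6.simple 0) + chevE6.cartan 5 (chevE6.simple 0) = 1 := by
    decide +kernel
  rw [e1, e2] at h1
  apply h2
  have h3 : (1 : K) = -1 := by simpa using h1
  linear_combination h3

/-! ### assembly -/

/-- the common form of `t0` -/
theorem isT0_of {r : ℕ} [Fact r.Prime] {X : Type} [Group X] (ι : X →* Yb r) {x : X}
    (h : ι x = hc hp6 0 (-1) * hc hp6 3 (-1) * hc hp6 5 (-1)) : Cfsg.Agent.H518.Carter.IsT0 r ι x := by
  have hk : LocFin (Kb r) := locFin_of_isAlgebraic r _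
  have m0 := hc_mem (K := Kb r) hp6 0 mone_ne
  have m3 := hc_mem (K := Kb r) hp6 3 mone_ne
  have m5 := hc_mem (K := Kb r) hp6 5 mone_ne
  refine ⟨1, hc hp6 0 (-1) * hc hp6 3 (-1) * hc hp6 5 (-1), mul_mem (mul_mem m0 m3) m5, by
    rw [one_mul, inv_one, mul_one]; exact h, fun i => ?_⟩
  have hr : chevE6.simple i < 72 := simple_lt hp6.inList (lt_rank hp6 i)
  have C := (coordsL (k := Kb r) hp6 cs6 hk r).coord _ (isRoot_vec hr)
  rw [← vec_simple hp6 i, C.chi_mul (mul_mem m0 m3) m5, C.chi_mul m0 m3, ch_hc hp6 0 mone_ne hr,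
    ch_hc hp6 3 mone_ne hr, ch_hc hp6 5 mone_ne hr, ← zpow_add₀ mone_ne, ← zpow_add₀ mone_ne]
  have h : ∀ i : Fin 6, (i = 1 → (chevE6.cartan ((0 : Fin 6) : ℕ) (chevE6.simple i) +
      chevE6.cartan ((3 : Fin 6) : ℕ) (chevE6.simple i) + chevE6.cartan ((5 : Fin 6) : ℕ) (chevE6.simple i)) % 2 = 1) ∧
      (i ≠ 1 → (chevE6.cartan ((0 : Fin 6) : ℕ) (chevE6.simple i) +
      chevE6.cartan ((3 : Fin 6) : ℕ) (chevE6.simple i) + chevE6.cartan ((5 : Fin 6) : ℕ) (chevE6.simple i)) % 2 = 0) := by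
    decide +kernel
  by_cases hi : i = 1
  · rw [if_pos hi, (Int.odd_iff.2 ((h i).1 hi)).neg_one_zpow]
  · rw [if_neg hi, (Int.even_iff.2 ((h i).2 hi)).neg_one_zpow]

/-- the invariance of the image of `SU₆(q)` (helper518) -/
def InvSt (K : Type) [Field K] [Fintype K] (q : ℕ) : Prop :=
  ∀ [StarRing K], (∀ x : K, star x = x ^ q) → ∀ {π : SL6 K →* ↥(chevE6.group K)}, IsPi π →
    π.ker ≤ center (SL6 K) → ∀ {l b : K} (B : Bas l b) {X : Type} [Group X] {ι : X →* ↥(chevE6.group K)},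
    Function.Injective ι → (∀ (x : X) (g : SL6 K), ι x = π g → ι x = π (ta g)) → ∀ {x0 : X}, ι x0 = t0 K →
    ∀ {j : H308.CA.SU (Fin 6) K →* X}, (∀ u, ι (j u) = π (Ps B u)) → ∀ α : MulAut X, α x0 = x0 → ∀ u, ∃ v, α (j u) = j v

/-- **T9, twisted.** -/
theorem sixJ_tw_of [Fintype K] {q r n : ℕ} [Fact r.Prime] [CharP K r] (hn0 : 0 < n) (hn : q = r ^ n)
    (hK : Fintype.card K = q ^ 2) (hr2 : r ≠ 2) (f : K →+* Kb r) (hB : InvSt K q) :
    ∃ x0 : ↥(twistedE6 K q), orderOf x0 = 2 ∧ SixJ ↥(twistedE6 K q) x0 ∧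
      Cfsg.Agent.H518.Carter.IsT0 r (em6 q f) x0 := by
  have hrp : r.Prime := Fact.out
  have hq : IsPrimePow q := (isPrimePow_nat_iff _).2 ⟨r, n, hrp, hn0, hn.symm⟩
  have h2 : (2 : K) ≠ 0 := by
    intro h
    have h1 : ((2 : ℕ) : K) = 0 := by exact_mod_cast h
    rw [CharP.cast_eq_zero_iff K r] at h1
    exact hr2 ((Nat.prime_dvd_prime_iff_eq hrp Nat.prime_two).1 h1)
  let _ : StarRing K := Cfsg.Agent.H466.CA.BridgeUni.sr hK
  have hst : ∀ x : K, star x = x ^ q := fun _ => rfl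
  obtain ⟨φ, hφ, hqq⟩ := Cfsg.Agent.ChevalleyStructure.TwE6Basic.exists_frob hq hK
  obtain ⟨l, hl0, hl⟩ := Cfsg.Agent.LieClassical.HermBasic.exists_trace_zero_ne hK
  obtain ⟨b, hb⟩ := Cfsg.Agent.LieClassical.HermBasic.exists_norm_eq hK (c := (-1 : K)) (by
    rw [Cfsg.Agent.LieClassical.HermBasic.neg_pow_q hK, one_pow])
  have B : Bas l b := ⟨hl0, by rw [hst]; linear_combination hl, by rw [hst]; exact hb, h2⟩
  obtain ⟨π, hπ, hker⟩ := exists_pi (F := K)
  -- the homomorphism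
  have hle : twistedE6 K q ≤ chevE6.group K := BpExc.FamTw.Six.twisted_le_group (K := K) q
  let ι : ↥(twistedE6 K q) →* ↥(chevE6.group K) := Subgroup.inclusion hle
  have hι : Function.Injective ι := Subgroup.inclusion_injective hle
  let j : H308.CA.SU (Fin 6) K →* ↥(twistedE6 K q) :=
    ((chevE6.group K).subtype.comp (π.comp (Ps B))).codRestrict (twistedE6 K q) (mem_tw hn0 hn hK hst hπ B)
  have hj : ∀ u, ι (j u) = π (Ps B u) := fun u => Subtype.ext rfl
  have hz : Ps B (m1 K) = z6 K := by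
    apply Subtype.ext
    rw [coe_Ps_m1, coe_z6]
  have h0 : ι (j (m1 K)) = t0 K := by rw [hj, hz, pi_z6 hπ]
  have hm1 : m1 K * m1 K = 1 := by
    apply H308.CA.mt_injective
    rw [map_mul, map_one]
    show (-1 : Matrix (Fin 6) (Fin 6) K) * -1 = 1
    rw [neg_mul_neg, mul_one]
  have hcen : ∀ u, m1 K * u = u * m1 K := by
    intro u
    apply H308.CA.mt_injective
    rw [map_mul, map_mul]
    show (-1 : Matrix (Fin 6) (Fin 6) K) * H308.CA.mt u = H308.CA.mt u * -1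
    rw [neg_mul, one_mul, mul_neg, mul_one]
  have hconj : ∀ u : H308.CA.SU (Fin 6) K, H308.CA.mt u =
      Matrix.diagonal (fun i : Fin 6 => if (i : ℕ) < 2 then (-1 : K) else 1) →
      IsConj (j u) (j (m1 K)) ∧ j u ≠ j (m1 K) := by
    intro u hu
    have h3 : ι (j u) = tg K := by rw [hj]; exact pi_dg hπ (coe_Ps_diag B hu)
    constructor
    · rw [isConj_iff]
      refine ⟨⟨_, ng_mem hφ⟩, hι ?_⟩
      rw [map_mul, map_mul, map_inv, h3, h0]
      exact conj_tg r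
    · intro h4
      apply tg_ne (K := K) r h2
      rw [← h3, h4, h0]
  refine ⟨j (m1 K), ?_, ⟨r, hrp, hr2, K, _, _, gd_of_bas B, inferInstance, j, ?_, ?_, ?_, hconj⟩, ?_⟩
  · refine orderOf_eq_prime ?_ ?_
    · rw [pow_two, ← map_mul, hm1, map_one]
    · intro h4
      have h5 : t0 K = 1 := by rw [← h0, h4, map_one]
      have h6 := conj_tg (K := K) r
      rw [h5] at h6
      apply tg_ne (K := K) r h2
      rw [h5]
      have h7 : ng K * tg K = ng K := by
        have := congrArg (· * ng K) h6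
        simpa using this
      exact mul_eq_left.1 h7
  · intro u hu
    have h3 : π (Ps B u) = 1 := by rw [← hj, hu, map_one]
    have h4 := hker (MonoidHom.mem_ker.2 h3)
    rw [Subgroup.mem_center_iff] at h4 ⊢
    intro g
    apply Ps_injective B
    rw [map_mul, map_mul]
    exact h4 _
  · intro α hα u
    refine hB hst hπ hker B hι (fun x g hx => ?_) h0 hj α hα u
    apply Subtype.ext
    rw [← sg_pi (fun x => by rw [hφ, hst]) hπ g, ← hx]
    exact (Cfsg.Agent.ChevalleyStructure.TwE6Basic.twisted_le_fix φ hφ hqq x.2).symm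
  · intro u
    rw [← map_mul, ← map_mul, hcen]
  · apply isT0_of
    apply Subtype.ext
    have h5 : ((j (m1 K) : ↥(twistedE6 K q)) : GL chevE6.Idx K) = ((t0 K : ↥(chevE6.group K)) : GL chevE6.Idx K) :=
      congrArg Subtype.val h0
    show Cfsg.Agent.GpExc.Field.glMap chevE6 f ((j (m1 K) : ↥(twistedE6 K q)) : GL chevE6.Idx K) = _
    rw [h5]
    show Cfsg.Agent.GpExc.Field.glMap chevE6 f (hG hp6.inList (chevE6.simple 0) (-1) *
      hG hp6.inList (chevE6.simple 3) (-1) * hG hp6.inList (chevE6.simple 5) (-1)) = _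
    rw [map_mul, map_mul, Cfsg.Agent.GpExc.Field.glMap_hG hp6, Cfsg.Agent.GpExc.Field.glMap_hG hp6,
      Cfsg.Agent.GpExc.Field.glMap_hG hp6, map_neg, map_one]
    rfl

end Cfsg.Agent.H346.Car
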